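import Cfsg.Agent.Lib.Sporadic.FiTransfer.SylowTwo.Defs

/-!
The search among commuting involutions.
-/

set_option autoImplicit false
set_option maxRecDepth 100000
set_option maxHeartbeats 0
set_option Elab.async false

namespace CfsgLib.Sporadic.FiTransfer.SylowTwo

/-- The search below one first involution. -/
noncomputable def dfsFirst : ℕ → Bool := fun b =>
      Nat.ble b 0 || [0].contains b || !([0].all fun s => Nat.beq (mulAt b s) (mulAt s b)) ||
        dfsK 4 ([0] ++ [0].map (fun s => mulAt b s)) b

theorem dfsFirst_part0 : (invList.take 4).all dfsFirst = true := by decide +kernel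

theorem dfsFirst_part1 : ((invList.drop 4).take 7).all dfsFirst = true := by decide +kernel

theorem dfsFirst_part2 : (invList.drop 11).all dfsFirst = true := by decide +kernel

theorem dfs_ok : dfsK 5 [0] 0 = true := by
  show invList.all dfsFirst = true
  rw [show invList = invList.take 4 ++ (invList.drop 4).take 7 ++ invList.drop 11 from rfl]
  simp only [List.all_append, dfsFirst_part0, dfsFirst_part1, dfsFirst_part2, Bool.and_self]

end CfsgLib.Sporadic.FiTransfer.SylowTwo
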