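import Cfsg.Agent.Lib.Sporadic.FiTransfer.SylowTwo.Defs

/-!
The products of the permutations and the fixed vectors.
-/

set_option autoImplicit false
set_option maxRecDepth 100000
set_option maxHeartbeats 0

namespace CfsgLib.Sporadic.FiTransfer.SylowTwo

theorem mulTab_ok : (List.range 128).all mulTabK = true := by decide +kernel

end CfsgLib.Sporadic.FiTransfer.SylowTwo
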