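import Cfsg.Agent.Lib.Sporadic.FiTransfer.SylowTwo.CheckOrbit
import Cfsg.Agent.Lib.Sporadic.FiTransfer.SylowTwo.CheckRel
import Cfsg.Agent.Lib.Sporadic.FiTransfer.SylowTwo.CheckMul
import Cfsg.Agent.Lib.Sporadic.FiTransfer.SylowTwo.CheckCount
import Cfsg.Agent.Lib.Sporadic.FiTransfer.SylowTwo.CheckDfs

/-!
The checks hold.
-/

set_option autoImplicit false
set_option maxRecDepth 100000
set_option maxHeartbeats 0

namespace CfsgLib.Sporadic.FiTransfer.SylowTwo

open CosetCert.FiP.OutFi22 (genPts)

theorem frame_ok : frameK = true := by decide +kernel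
theorem comm_ok : commK = true := by decide +kernel
theorem coord_ok : coordK = true := by decide +kernel
theorem sep_ok : sepK = true := by decide +kernel
theorem permute_ok : permuteK = true := by decide +kernel
theorem permTab_ok : permTabK = true := by decide +kernel
theorem inv_ok : invK = true := by decide +kernel
theorem witness_ok : witnessK = true := by decide +kernel

theorem shape_ok : frame.length = 22 ∧ basisIx.length = 10 ∧ upWords.length = 7 ∧
    (∀ i < 22, ∀ x ∈ frameWord i, x < 9) ∧ (∀ k < 7, ∀ x ∈ upWords.getD k [], x < 9) ∧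
    (∀ i < 22, frame.getD i 0 < 3510) ∧ (∀ k < 10, basisIx.getD k 0 < 22) ∧
    (∀ k < 10, coords.getD (basisIx.getD k 0) 0 = 2 ^ k) ∧ (∀ p ∈ genPts, p < 3510) ∧
    (∀ o < sepPts.length, sepPts.getD o 0 < 3510) := by decide +kernel

end CfsgLib.Sporadic.FiTransfer.SylowTwo
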