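import Cfsg.Agent.Lib.Sporadic.FiTransfer.SylowTwo.Series
import Cfsg.Prelude.Def_Transfer
import Mathlib.GroupTheory.Sylow

/-!
Elementary abelian subgroups of the group of order 2 ^ 17: none is larger than 1024, and only one has that
order. The same then holds in every Sylow 2-subgroup of Fi22.
-/

set_option autoImplicit false
set_option maxRecDepth 100000

open Cfsg.Spor

namespace CfsgLib.Sporadic.FiTransfer.SylowTwo

open CosetCert CosetCert.FiP CosetCert.FiP.OutFi22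
open CosetCert.FiData (table)

attribute [local irreducible] PTab.img actV mulAt permAt

/-- An element permutes the twenty-two points as the listed permutation. -/
def HasPerm (g : Fi22) (a : ℕ) : Prop := a < 128 ∧ ∀ i < 22, hom g (fpt i) = fpt (permAt a i)

theorem hasPerm_eU (v : ℕ) {a : ℕ} (ha : a < 128) : HasPerm (e v * U a) a := by
  refine ⟨ha, fun i hi => ?_⟩
  obtain ⟨h1, h2⟩ := U_frame 7 le_rfl a ha i hi
  rw [map_mul, Equiv.Perm.mul_apply, h2, e_eq_ev, ev_fix le_rfl v h1]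

theorem permDiff {a b : ℕ} (ha : a < 128) (hb : b < a) : ∃ i < 22, permAt a i ≠ permAt b i := by
  obtain ⟨i, hi, h⟩ := List.any_eq_true.1
    (List.all_eq_true.1 (List.all_eq_true.1 permDiff_ok a (List.mem_range.2 ha)) b (List.mem_range.2 hb))
  refine ⟨i, List.mem_range.1 hi, fun e => ?_⟩
  rw [Nat.beq_eq.mpr e] at h
  exact Bool.false_ne_true h

theorem hasPerm_unique {g : Fi22} {a b : ℕ} (ha : HasPerm g a) (hb : HasPerm g b) : a = b := by
  have key : ∀ i < 22, permAt a i = permAt b i := fun i hi =>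
    fpt_inj (U_frame 7 le_rfl a ha.1 i hi).1 (U_frame 7 le_rfl b hb.1 i hi).1
      ((ha.2 i hi).symm.trans (hb.2 i hi))
  rcases lt_trichotomy a b with h | h | h
  · obtain ⟨i, hi, hne⟩ := permDiff hb.1 h
    exact absurd (key i hi).symm hne
  · exact h
  · obtain ⟨i, hi, hne⟩ := permDiff ha.1 h
    exact absurd (key i hi) hne

theorem hasPerm_one : HasPerm 1 0 :=
  ⟨by norm_num, fun i hi => by rw [map_one, Equiv.Perm.one_apply, permAt_zero_ok i hi]⟩

theorem mulAt_lt (a b : ℕ) : mulAt a b < 128 := by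
  unfold mulAt
  exact Nat.mod_lt _ (by norm_num)

theorem hasPerm_mul {g h : Fi22} {a b : ℕ} (ha : HasPerm g a) (hb : HasPerm h b) :
    HasPerm (g * h) (mulAt a b) := by
  refine ⟨mulAt_lt a b, fun i hi => ?_⟩
  have hK := List.all_eq_true.1 (List.all_eq_true.1
    (List.all_eq_true.1 mulTab_ok a (List.mem_range.2 ha.1)) b (List.mem_range.2 hb.1)) i (List.mem_range.2 hi)
  rw [Nat.eq_of_beq_eq_true hK, map_mul, Equiv.Perm.mul_apply, hb.2 i hi,
    ha.2 _ (U_frame 7 le_rfl b hb.1 i hi).1]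

theorem exists_hasPerm {g : Fi22} (hg : g ∈ syl) : ∃ a, HasPerm g a := by
  obtain ⟨v, a, -, ha, rfl⟩ := mem_syl.1 hg
  exact ⟨a, hasPerm_eU v ha⟩

theorem mem_eSub_of_perm {g : Fi22} (hg : g ∈ syl) (h : HasPerm g 0) : g ∈ eSub := by
  obtain ⟨v, a, hv, ha, rfl⟩ := mem_syl.1 hg
  obtain rfl := hasPerm_unique (hasPerm_eU v ha) h
  exact mem_eSub.2 ⟨v, hv, by rw [U_zero, mul_one]⟩

theorem eSub_le : eSub ≤ syl := by
  intro g hg
  obtain ⟨v, hv, rfl⟩ := mem_eSub.1 hg
  exact mem_syl.2 ⟨v, 0, hv, by norm_num, by rw [U_zero, mul_one]⟩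

theorem conj_eq {g : Fi22} {a : ℕ} (hg : g ∈ syl) (ha : HasPerm g a) (v : ℕ) :
    g * e v * g⁻¹ = e (actV a v) := by
  obtain ⟨w, b, -, hb, rfl⟩ := mem_syl.1 hg
  obtain rfl := hasPerm_unique (hasPerm_eU w hb) ha
  rw [show e w * U b * e v * (e w * U b)⁻¹ = e w * (U b * e v * (U b)⁻¹) * (e w)⁻¹ by group,
    conj_e hb, (e_comm w _).eq]
  group

theorem eSub_normal {g x : Fi22} (hg : g ∈ syl) (hx : x ∈ eSub) : g * x * g⁻¹ ∈ eSub := by
  obtain ⟨v, -, rfl⟩ := mem_eSub.1 hx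
  obtain ⟨a, ha⟩ := exists_hasPerm hg
  exact mem_eSub.2 ⟨_, actV_lt ha.1 v, conj_eq hg ha v⟩

theorem eSub_elementary : Cfsg.IsElementaryAbelian 2 eSub := by
  refine ⟨⟨⟨?_⟩⟩, ?_⟩
  · rintro ⟨x, hx⟩ ⟨y, hy⟩
    obtain ⟨v, -, rfl⟩ := mem_eSub.1 hx
    obtain ⟨w, -, rfl⟩ := mem_eSub.1 hy
    exact Subtype.ext (e_comm v w).eq
  · intro x hx
    obtain ⟨v, -, rfl⟩ := mem_eSub.1 hx
    rw [pow_two, e_sq]

theorem card_eSub : Nat.card eSub = 1024 := by
  refine (Nat.card_eq_of_bijective (fun v : Fin 1024 => (⟨e v, mem_eSub.2 ⟨v, v.2, rfl⟩⟩ : eSub))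
    ⟨fun v w h => Fin.ext (e_inj v.2 w.2 (congrArg Subtype.val h)), ?_⟩).symm.trans (Nat.card_fin _)
  rintro ⟨x, hx⟩
  obtain ⟨v, hv, rfl⟩ := mem_eSub.1 hx
  exact ⟨⟨v, hv⟩, rfl⟩

theorem card_syl : Nat.card syl = 2 ^ 17 := by
  refine (Nat.card_eq_of_bijective (fun p : Fin 1024 × Fin 128 =>
    (⟨e p.1 * U p.2, mem_syl.2 ⟨p.1, p.2, p.1.2, p.2.2, rfl⟩⟩ : syl)) ⟨?_, ?_⟩).symm.trans ?_
  · rintro ⟨v, a⟩ ⟨w, b⟩ h
    have h1 : e v * U a = e w * U b := congrArg Subtype.val h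
    have hab : (a : ℕ) = b := hasPerm_unique (hasPerm_eU v a.2) (h1 ▸ hasPerm_eU w b.2)
    rw [hab] at h1
    exact Prod.ext (Fin.ext (e_inj v.2 w.2 (mul_right_cancel h1))) (Fin.ext hab)
  · rintro ⟨x, hx⟩
    obtain ⟨v, a, hv, ha, rfl⟩ := mem_syl.1 hx
    exact ⟨(⟨v, hv⟩, ⟨a, ha⟩), rfl⟩
  · rw [Nat.card_prod, Nat.card_fin, Nat.card_fin]
    norm_num

theorem fixCount_eq (a : ℕ) : fixCount a = ((Finset.range 1024).filter fun v => actV a v = v).card := by
  suffices h : ∀ n, (Nat.rec 0 (fun v ih => bif Nat.beq (actV a v) v then Nat.succ ih else ih) n : ℕ) =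
      ((Finset.range n).filter fun v => actV a v = v).card from h 1024
  intro n
  induction n with
  | zero => rfl
  | succ n ih =>
    show (bif Nat.beq (actV a n) n then Nat.succ _ else _) = _
    rw [Finset.range_add_one, Finset.filter_insert, ih]
    by_cases h : actV a n = n
    · rw [Nat.beq_eq.mpr h, if_pos h, Finset.card_insert_of_notMem (by simp)]
      rfl
    · rw [Bool.eq_false_iff.mpr (fun hh => h (Nat.eq_of_beq_eq_true hh)), if_neg h]
      rfl

theorem finite' : Finite Fi22 := finite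

/-- The elements of the abelian subgroup commuting with an element. -/
noncomputable def fixSub (g : Fi22) : Subgroup Fi22 := eSub ⊓ Subgroup.centralizer {g}

theorem mem_fixSub {g : Fi22} {a : ℕ} (hg : g ∈ syl) (ha : HasPerm g a) {v : ℕ} (hv : v < 1024) :
    e v ∈ fixSub g ↔ actV a v = v := by
  rw [fixSub, Subgroup.mem_inf, Subgroup.mem_centralizer_singleton_iff]
  have hc := conj_eq hg ha v
  constructor
  · rintro ⟨-, h⟩
    rw [← h, mul_inv_cancel_right] at hc
    exact (e_inj hv (actV_lt ha.1 v) hc).symm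
  · intro h
    rw [h, mul_inv_eq_iff_eq_mul] at hc
    exact ⟨mem_eSub.2 ⟨v, hv, rfl⟩, hc.symm⟩

theorem invList_of {a : ℕ} (ha : a < 128) (h0 : a ≠ 0) (h2 : mulAt a a = 0) : a ∈ invList := by
  have h := List.all_eq_true.1 inv_ok a (List.mem_range.2 ha)
  simp only [Bool.or_eq_true, Bool.not_eq_true', List.contains_eq_mem, decide_eq_true_eq] at h
  rcases h with (h | h) | h
  · exact absurd (Nat.eq_of_beq_eq_true h) h0
  · rw [Nat.beq_eq.mpr h2] at h; exact absurd h Bool.false_ne_true.symm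
  · exact h

theorem card_fixSub_le {g : Fi22} {a : ℕ} (hg : g ∈ syl) (ha : HasPerm g a) (hi : a ∈ invList) :
    Nat.card (fixSub g) ≤ 64 := by
  classical
  have hle := Nat.le_of_ble_eq_true (List.all_eq_true.1 count_ok a hi)
  rw [fixCount_eq] at hle
  refine le_trans ?_ hle
  rw [show Nat.card (fixSub g) = (fixSub g : Set Fi22).ncard from Nat.card_coe_set_eq _]
  refine le_trans ?_ (Finset.card_image_le (f := e))
  rw [← Set.ncard_coe_finset]
  refine Set.ncard_le_ncard ?_ (Finset.finite_toSet _)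
  intro x hx
  obtain ⟨v, hv, rfl⟩ := mem_eSub.1 hx.1
  exact Finset.mem_image_of_mem e (Finset.mem_filter.2 ⟨Finset.mem_range.2 hv, (mem_fixSub hg ha hv).1 hx⟩)

theorem card_inf_two_le {g h : Fi22} {a b : ℕ} (hg : g ∈ syl) (hh : h ∈ syl) (ha : HasPerm g a)
    (hb : HasPerm h b) (hia : a ∈ invList) (hib : b ∈ invList) (hab : a ≠ b) :
    Nat.card (fixSub g ⊓ fixSub h : Subgroup Fi22) ≤ 32 := by
  have := finite'
  obtain ⟨s, hs, rfl⟩ := List.mem_iff_getElem.1 hia
  obtain ⟨t, ht, rfl⟩ := List.mem_iff_getElem.1 hib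
  have hw := List.all_eq_true.1 (List.all_eq_true.1 witness_ok s (List.mem_range.2 hs)) t (List.mem_range.2 ht)
  rw [Bool.or_eq_true] at hw
  rcases hw with hw | hw
  · exact absurd (by simp only [Nat.eq_of_beq_eq_true hw]) hab
  simp only [Bool.and_eq_true, Bool.not_eq_true', List.getD_eq_getElem _ _ hs,
    List.getD_eq_getElem _ _ ht] at hw
  generalize (witK.getD s []).getD t 0 = v at hw
  obtain ⟨⟨hv, h1⟩, h2⟩ := hw
  have hv' : v < 1024 := Nat.le_of_ble_eq_true hv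
  have hne : fixSub g ⊓ fixSub h ≠ fixSub g := fun e' => by
    have hm : e v ∈ fixSub g ⊓ fixSub h := by
      rw [e']; exact (mem_fixSub hg ha hv').2 (Nat.eq_of_beq_eq_true h1)
    rw [Nat.beq_eq.mpr ((mem_fixSub hh hb hv').1 hm.2)] at h2
    exact Bool.false_ne_true h2.symm
  obtain ⟨c, hc⟩ := Subgroup.card_dvd_of_le (inf_le_left : fixSub g ⊓ fixSub h ≤ fixSub g)
  have hlt : Nat.card (fixSub g ⊓ fixSub h : Subgroup Fi22) ≠ Nat.card (fixSub g) := fun e' =>
    hne (Subgroup.eq_of_le_of_card_ge inf_le_left e'.ge)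
  have h128 := card_fixSub_le hg ha hia
  rcases c with _ | _ | c
  · rw [mul_zero] at hc
    exact absurd hc Nat.card_pos.ne'
  · exact absurd (by rw [hc, zero_add, mul_one]) hlt
  · rw [hc] at h128
    nlinarith

theorem dfs_bound {S : Finset ℕ} (h0 : 0 ∈ S) (hI : ∀ a ∈ S, a ≠ 0 → a ∈ invList)
    (hmul : ∀ a ∈ S, ∀ b ∈ S, mulAt a b ∈ S) (hcomm : ∀ a ∈ S, ∀ b ∈ S, mulAt a b = mulAt b a)
    (hz : ∀ a ∈ S, mulAt a 0 = a) : ∀ (n : ℕ) (L : List ℕ) (last : ℕ), dfsK n L last = true → 0 ∈ L →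
      (∀ x ∈ L, x ∈ S) → (∀ b ∈ S, b ∉ L → last < b) → 2 * S.card ≤ L.length * 2 ^ n := by
  intro n
  induction n with
  | zero => intro L last h; exact absurd h Bool.false_ne_true
  | succ n ih =>
    intro L last h hL0 hLS hlast
    classical
    by_cases hsub : ∀ b ∈ S, b ∈ L
    · have h1 : S.card ≤ L.length :=
        (Finset.card_le_card (fun b hb => List.mem_toFinset.2 (hsub b hb))).trans L.toFinset_card_le
      calc 2 * S.card ≤ 2 * L.length := Nat.mul_le_mul_left _ h1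
        _ = L.length * 2 ^ 1 := by ring
        _ ≤ L.length * 2 ^ (n + 1) := Nat.mul_le_mul_left _ (Nat.pow_le_pow_right two_pos (by omega))
    · push Not at hsub
      have hex : ∃ b, b ∈ S ∧ b ∉ L := hsub
      obtain ⟨hbS, hbL⟩ := Nat.find_spec hex
      have hmin : ∀ c, c ∈ S → c ∉ L → Nat.find hex ≤ c := fun c h1 h2 => Nat.find_min' hex ⟨h1, h2⟩
      generalize Nat.find hex = b at hbS hbL hmin
      have hb0 : b ≠ 0 := fun e' => hbL (e' ▸ hL0)
      have h' := List.all_eq_true.1 h b (hI b hbS hb0)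
      simp only [Bool.or_eq_true] at h'
      rcases h' with ((h' | h') | h') | h'
      · exact absurd (Nat.le_of_ble_eq_true h') (hlast b hbS hbL).not_ge
      · exact absurd (by simpa using h') hbL
      · exfalso
        rw [Bool.not_eq_true', List.all_eq_false] at h'
        obtain ⟨s, hs, hne⟩ := h'
        exact hne (Nat.beq_eq.mpr (hcomm b hbS s (hLS s hs)))
      · have hmem : b ∈ L ++ L.map (fun s => mulAt b s) :=
          List.mem_append_right _ (List.mem_map.2 ⟨0, hL0, hz b hbS⟩)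
        have := ih (L ++ L.map (fun s => mulAt b s)) b h' (List.mem_append_left _ hL0) (fun x hx => by
            rcases List.mem_append.1 hx with hx | hx
            · exact hLS x hx
            · obtain ⟨s, hs, rfl⟩ := List.mem_map.1 hx
              exact hmul b hbS s (hLS s hs))
          (fun c hc hcL => lt_of_le_of_ne (hmin c hc fun hh => hcL (List.mem_append_left _ hh))
            fun e' => hcL (e' ▸ hmem))
        rw [List.length_append, List.length_map] at this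
        calc 2 * S.card ≤ (L.length + L.length) * 2 ^ n := this
          _ = L.length * 2 ^ (n + 1) := by ring

theorem card_le {A : Subgroup Fi22} (hA : A ≤ syl) (hEA : Cfsg.IsElementaryAbelian 2 A) :
    Nat.card A ≤ 2 ^ 10 ∧ (Nat.card A = 2 ^ 10 → A = eSub) := by
  classical
  have := finite'
  obtain ⟨⟨⟨hc⟩⟩, h2⟩ := hEA
  have hcomm : ∀ x ∈ A, ∀ y ∈ A, x * y = y * x := fun x hx y hy =>
    congrArg Subtype.val (hc ⟨x, hx⟩ ⟨y, hy⟩)
  have hsq : ∀ x ∈ A, x * x = 1 := fun x hx => by rw [← pow_two]; exact h2 x hx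
  let S : Finset ℕ := (Finset.range 128).filter fun a => ∃ g ∈ A, HasPerm g a
  have hS : ∀ a, a ∈ S ↔ ∃ g ∈ A, HasPerm g a := fun a => by
    simp only [S, Finset.mem_filter, Finset.mem_range]
    exact ⟨And.right, fun ⟨g, hg, h⟩ => ⟨h.1, g, hg, h⟩⟩
  have h0 : 0 ∈ S := (hS 0).2 ⟨1, A.one_mem, hasPerm_one⟩
  have hmul : ∀ a ∈ S, ∀ b ∈ S, mulAt a b ∈ S := by
    intro a ha b hb
    obtain ⟨g, hg, hga⟩ := (hS a).1 ha
    obtain ⟨h, hh, hhb⟩ := (hS b).1 hb
    exact (hS _).2 ⟨g * h, A.mul_mem hg hh, hasPerm_mul hga hhb⟩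
  have hcm : ∀ a ∈ S, ∀ b ∈ S, mulAt a b = mulAt b a := by
    intro a ha b hb
    obtain ⟨g, hg, hga⟩ := (hS a).1 ha
    obtain ⟨h, hh, hhb⟩ := (hS b).1 hb
    exact hasPerm_unique (hasPerm_mul hga hhb) (hcomm g hg h hh ▸ hasPerm_mul hhb hga)
  have hz : ∀ a ∈ S, mulAt a 0 = a := by
    intro a ha
    obtain ⟨g, -, hga⟩ := (hS a).1 ha
    exact hasPerm_unique (hasPerm_mul hga hasPerm_one) ((mul_one g).symm ▸ hga)
  have hI : ∀ a ∈ S, a ≠ 0 → a ∈ invList := by
    intro a ha hne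
    obtain ⟨g, hg, hga⟩ := (hS a).1 ha
    exact invList_of hga.1 hne
      (hasPerm_unique (hasPerm_mul hga hga) ((hsq g hg).symm ▸ hasPerm_one))
  have hS16 : S.card ≤ 16 := by
    have := dfs_bound h0 hI hmul hcm hz 5 [0] 0 dfs_ok (by simp) (by simp [h0])
      (fun b _ hb => Nat.pos_of_ne_zero (by simpa using hb))
    simp only [List.length_singleton, one_mul] at this
    omega
  have hprod : Nat.card A ≤ S.card * Nat.card (A ⊓ eSub : Subgroup Fi22) := by
    let rep : ℕ → Fi22 := fun a => if h : ∃ g ∈ A, HasPerm g a then h.choose else 1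
    have hrep : ∀ a ∈ S, rep a ∈ A ∧ HasPerm (rep a) a := fun a ha => by
      simp only [rep, dif_pos ((hS a).1 ha)]
      exact ((hS a).1 ha).choose_spec
    have hex : ∀ g : A, ∃ a, a ∈ S ∧ HasPerm g.1 a := fun g => by
      obtain ⟨a, ha⟩ := exists_hasPerm (hA g.2)
      exact ⟨a, (hS a).2 ⟨g.1, g.2, ha⟩, ha⟩
    choose p hpS hp using hex
    have hm : ∀ g : A, g.1 * rep (p g) ∈ A ⊓ eSub := fun g => by
      have hr := hrep _ (hpS g)
      have hk := A.mul_mem g.2 hr.1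
      refine ⟨hk, mem_eSub_of_perm (hA hk) ?_⟩
      have h := hasPerm_mul (hp g) hr.2
      rwa [hasPerm_unique (hasPerm_mul hr.2 hr.2) ((hsq _ hr.1).symm ▸ hasPerm_one)] at h
    let f : A → S × (A ⊓ eSub : Subgroup Fi22) := fun g => (⟨p g, hpS g⟩, ⟨g.1 * rep (p g), hm g⟩)
    have hf : Function.Injective f := by
      intro g h e'
      have h1 : p g = p h := congrArg (fun z => (z.1 : ℕ)) e'
      have h2 : g.1 * rep (p g) = h.1 * rep (p h) := congrArg (fun z => (z.2 : Fi22)) e'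
      rw [h1] at h2
      exact Subtype.ext (mul_right_cancel h2)
    refine (Nat.card_le_card_of_injective f hf).trans ?_
    rw [Nat.card_prod, Nat.card_eq_finsetCard]
  have hfix : ∀ a ∈ S, ∀ g ∈ A, HasPerm g a → A ⊓ eSub ≤ fixSub g := fun a _ g hg _ x hx =>
    ⟨hx.2, Subgroup.mem_centralizer_singleton_iff.2 (hcomm x hx.1 g hg)⟩
  by_cases h1 : ∃ a ∈ S, a ≠ 0
  · obtain ⟨a, ha, ha0⟩ := h1
    obtain ⟨g, hg, hga⟩ := (hS a).1 ha
    by_cases h3 : ∃ b ∈ S, b ≠ 0 ∧ b ≠ a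
    · obtain ⟨b, hb, hb0, hba⟩ := h3
      obtain ⟨h, hh, hhb⟩ := (hS b).1 hb
      have h64 : Nat.card (A ⊓ eSub : Subgroup Fi22) ≤ 32 :=
        (Subgroup.card_le_of_le (le_inf (hfix a ha g hg hga) (hfix b hb h hh hhb))).trans
          (card_inf_two_le (hA hg) (hA hh) hga hhb (hI a ha ha0) (hI b hb hb0) (Ne.symm hba))
      have h4 := hprod.trans (Nat.mul_le_mul hS16 h64)
      norm_num at h4 ⊢
      exact ⟨by omega, fun e' => by omega⟩
    · push Not at h3
      have hS2 : S.card ≤ 2 := (Finset.card_le_card (t := {0, a}) fun b hb => by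
        by_cases hb0 : b = 0
        · simp [hb0]
        · simp [h3 b hb hb0]).trans Finset.card_le_two
      have h128 : Nat.card (A ⊓ eSub : Subgroup Fi22) ≤ 64 :=
        (Subgroup.card_le_of_le (hfix a ha g hg hga)).trans (card_fixSub_le (hA hg) hga (hI a ha ha0))
      have h4 := hprod.trans (Nat.mul_le_mul hS2 h128)
      norm_num at h4 ⊢
      exact ⟨by omega, fun e' => by omega⟩
  · push Not at h1
    have hle : A ≤ eSub := fun g hg => by
      obtain ⟨a, ha⟩ := exists_hasPerm (hA hg)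
      obtain rfl := h1 a ((hS a).2 ⟨g, hg, ha⟩)
      exact mem_eSub_of_perm (hA hg) ha
    have h4 := Subgroup.card_le_of_le hle
    rw [card_eSub] at h4
    refine ⟨h4.trans (by norm_num), fun e' => Subgroup.eq_of_le_of_card_ge hle ?_⟩
    rw [e', card_eSub]
    norm_num

theorem isPGroup_syl : IsPGroup 2 syl := IsPGroup.of_card card_syl

theorem index_syl : ¬ 2 ∣ syl.index := by
  have := finite'
  have h := syl.card_mul_index
  rw [card_syl, CosetCert.FiP.card_eq.1] at h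
  have h' : syl.index = 64561751654400 / 2 ^ 17 := by
    rw [← h, Nat.mul_div_cancel_left _ (by norm_num)]
  rw [h']
  norm_num

/-- The Sylow subgroup. -/
noncomputable def sylT : Sylow 2 Fi22 :=
  have := finite'
  isPGroup_syl.toSylow index_syl

end CfsgLib.Sporadic.FiTransfer.SylowTwo
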