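import Cfsg.Agent.Lib.Sporadic.FiTransfer.SylowTwo.Check
import Cfsg.Agent.Lib.Sporadic.FiTransfer.SylowTwo.Check2

/-!
The subgroup generated by the twenty-two commuting transpositions, and the extension of it by the seven
elements permuting them: a subgroup of order 2 ^ 17.
-/

set_option autoImplicit false
set_option maxRecDepth 100000

open Cfsg.Spor

namespace CfsgLib.Sporadic.FiTransfer.SylowTwo

open CosetCert CosetCert.FiP CosetCert.FiP.OutFi22
open CosetCert.FiData (table)

attribute [local irreducible] PTab.img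

/-- The concatenation of the listed words at the set bits. -/
def fl (f : ℕ → List ℕ) (n v : ℕ) : List ℕ :=
  (List.range n).flatMap fun k => if v.testBit k then f k else []

theorem fl_succ (f : ℕ → List ℕ) (n v : ℕ) :
    fl f (n + 1) v = fl f n v ++ if v.testBit n then f n else [] := by
  simp [fl, List.range_succ, List.flatMap_append]

theorem fl_trunc (f : ℕ → List ℕ) {k n v : ℕ} (hk : k ≤ n) (hv : v < 2 ^ k) : fl f n v = fl f k v := by
  induction hk with
  | refl => rfl
  | @step m hkm ih =>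
    rw [fl_succ, Nat.testBit_lt_two_pow (lt_of_lt_of_le hv (Nat.pow_le_pow_right (by norm_num) hkm)),
      if_neg Bool.false_ne_true, List.append_nil, ih]

theorem fl_top (f : ℕ → List ℕ) {k v : ℕ} (hv : v < 2 ^ k) : fl f (k + 1) (v + 2 ^ k) = fl f k v ++ f k := by
  rw [fl_succ, add_comm v, Nat.testBit_two_pow_add_eq, Nat.testBit_lt_two_pow hv]
  congr 1
  refine List.flatMap_congr fun j hj => ?_
  rw [Nat.testBit_two_pow_add_gt (List.mem_range.1 hj)]

theorem fl_lt (f : ℕ → List ℕ) {n v : ℕ} (hf : ∀ k < n, ∀ x ∈ f k, x < 9) : ∀ x ∈ fl f n v, x < 9 := by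
  intro x hx
  obtain ⟨k, hk, hx⟩ := List.mem_flatMap.1 hx
  split at hx
  · exact hf k (List.mem_range.1 hk) x hx
  · simp at hx

/-- The word of a basis vector. -/
def bword (k : ℕ) : List ℕ := frameWord (basisIx.getD k 0)

theorem vecWord_eq (v : ℕ) : vecWord v = fl bword 10 v := rfl

theorem upWord_eq (a : ℕ) : upWord a = fl (fun k => upWords.getD k []) 7 a := rfl

theorem frameWord_lt {i : ℕ} (hi : i < 22) : ∀ x ∈ frameWord i, x < 9 := shape_ok.2.2.2.1 i hi

theorem upWords_lt {k : ℕ} (hk : k < 7) : ∀ x ∈ upWords.getD k [], x < 9 := shape_ok.2.2.2.2.1 k hk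

theorem basis_lt {k : ℕ} (hk : k < 10) : basisIx.getD k 0 < 22 := shape_ok.2.2.2.2.2.2.1 k hk

theorem bword_lt {k : ℕ} (hk : k < 10) : ∀ x ∈ bword k, x < 9 := frameWord_lt (basis_lt hk)

theorem vecWord_lt (v : ℕ) : ∀ x ∈ vecWord v, x < 9 := fl_lt bword fun _ hk => bword_lt hk

theorem upWord_lt (a : ℕ) : ∀ x ∈ upWord a, x < 9 := fl_lt _ fun _ hk => upWords_lt hk

theorem frame_lt {i : ℕ} (hi : i < 22) : frame.getD i 0 < table.N := shape_ok.2.2.2.2.2.1 i hi

/-- One of the twenty-two points. -/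
noncomputable def fpt (i : ℕ) : Fin table.N := if h : frame.getD i 0 < table.N then ⟨_, h⟩ else pt

theorem fpt_val {i : ℕ} (hi : i < 22) : (fpt i : ℕ) = frame.getD i 0 := by
  rw [fpt, dif_pos (frame_lt hi)]

theorem fpt_inj {i j : ℕ} (hi : i < 22) (hj : j < 22) (h : fpt i = fpt j) : i = j :=
  frame_nodup i hi j hj (by rw [← fpt_val hi, ← fpt_val hj, h])

/-- The transposition of one of the twenty-two points. -/
noncomputable def d (i : ℕ) : Fi22 := el (frameWord i)

theorem d_eq {i : ℕ} (hi : i < 22) : d i = dp (fpt i) := by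
  have hK := List.all_eq_true.1 frame_ok i (List.mem_range.2 hi)
  exact (dp_of_half (by rw [fpt_val hi]; exact hK)).symm

theorem d_fix {i j : ℕ} (hi : i < 22) (hj : j < 22) : hom (d i) (fpt j) = fpt j := by
  refine Fin.ext ?_
  rw [d, el_img (frameWord_lt hi), fpt_val hj]
  exact Nat.eq_of_beq_eq_true
    (List.all_eq_true.1 (List.all_eq_true.1 comm_ok i (List.mem_range.2 hi)) j (List.mem_range.2 hj))

theorem d_comm {i j : ℕ} (hi : i < 22) (hj : j < 22) : Commute (d i) (d j) := by
  have := comm_of_fix (d_fix hi hj)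
  rwa [← d_eq hj] at this

theorem d_sq {i : ℕ} (hi : i < 22) : d i * d i = 1 := by
  have h : (frameWord i).reverse = frameWord i := by simp [frameWord, fullWord]
  have h2 := el_reverse (frameWord_lt hi)
  rw [h, eq_inv_iff_mul_eq_one] at h2
  exact h2

/-- The element of a vector, the first coordinates only. -/
noncomputable def ev (n v : ℕ) : Fi22 := el (fl bword n v)

/-- The element of a vector. -/
noncomputable def e (v : ℕ) : Fi22 := el (vecWord v)

theorem e_eq_ev (v : ℕ) : e v = ev 10 v := rfl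

/-- One coordinate of a vector. -/
noncomputable def bterm (n v : ℕ) : Fi22 := if v.testBit n then d (basisIx.getD n 0) else 1

theorem ev_succ (n v : ℕ) : ev (n + 1) v = bterm n v * ev n v := by
  rw [ev, fl_succ, el_append, bterm]
  split <;> rfl

theorem ev_comm_d {n : ℕ} (hn : n ≤ 10) (v : ℕ) {j : ℕ} (hj : j < 22) : Commute (ev n v) (d j) := by
  induction n with
  | zero => exact Commute.one_left _
  | succ n ih =>
    rw [ev_succ, bterm]
    split
    · exact (d_comm (basis_lt (by omega)) hj).mul_left (ih (by omega))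
    · rw [one_mul]; exact ih (by omega)

theorem ev_xor {n : ℕ} (hn : n ≤ 10) (v w : ℕ) : ev n (v ^^^ w) = ev n v * ev n w := by
  induction n with
  | zero => exact (one_mul _).symm
  | succ n ih =>
    have hb := basis_lt (show n < 10 by omega)
    have hx : bterm n (v ^^^ w) = bterm n v * bterm n w := by
      simp only [bterm, Nat.testBit_xor]
      cases v.testBit n <;> cases w.testBit n <;> simp [d_sq hb, -List.getD_eq_getElem?_getD]
    have hc : Commute (ev n v) (bterm n w) := by
      rw [bterm]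
      split
      · exact ev_comm_d (by omega) v hb
      · exact Commute.one_right _
    rw [ev_succ, ev_succ, ev_succ, ih (by omega), hx, hc.mul_mul_mul_comm]

theorem e_xor (v w : ℕ) : e (v ^^^ w) = e v * e w := ev_xor le_rfl v w

theorem e_zero : e 0 = 1 := by
  have h := e_xor 0 0
  rw [Nat.xor_self] at h
  exact mul_eq_left.1 h.symm

theorem e_sq (v : ℕ) : e v * e v = 1 := by rw [← e_xor, Nat.xor_self, e_zero]

theorem e_inv (v : ℕ) : (e v)⁻¹ = e v := inv_eq_of_mul_eq_one_right (e_sq v)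

theorem e_comm (v w : ℕ) : Commute (e v) (e w) := by
  show e v * e w = e w * e v
  rw [← e_xor, ← e_xor, Nat.xor_comm]

theorem sep_lt {o : ℕ} (ho : o < sepPts.length) : sepPts.getD o 0 < table.N := shape_ok.2.2.2.2.2.2.2.2.2 o ho

theorem orbit_spec {o : ℕ} (ho : o < sepPts.length) : ∀ n ≤ 10, ∀ v < 2 ^ n,
    table.imgW (fl bword n v) (sepPts.getD o 0) = orbAt o v := by
  have hK := List.all_eq_true.1 orbit_ok o (List.mem_range.2 ho)
  simp only [orbitK, Bool.and_eq_true, List.all_eq_true, List.mem_range] at hK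
  intro n
  induction n with
  | zero =>
    intro _ v hv
    obtain rfl : v = 0 := by omega
    exact (Nat.eq_of_beq_eq_true hK.1).symm
  | succ n ih =>
    intro hn v hv
    rcases lt_or_ge v (2 ^ n) with h | h
    · rw [fl_trunc bword (Nat.le_succ n) h]
      exact ih (by omega) v h
    · obtain ⟨w, rfl⟩ : ∃ w, v = w + 2 ^ n := ⟨v - 2 ^ n, by omega⟩
      have hw : w < 2 ^ n := by rw [pow_succ] at hv; omega
      rw [fl_top bword hw, PTab.imgW, List.foldl_append]
      have h2 := Nat.eq_of_beq_eq_true (hK.2 n (by omega) w hw)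
      rw [← h2, ← ih (by omega) w hw]
      rfl

theorem e_eq_one {v : ℕ} (hv : v < 1024) (h : e v = 1) : v = 0 := by
  have hK := List.all_eq_true.1 sep_ok v (List.mem_range.2 hv)
  rw [Bool.or_eq_true] at hK
  rcases hK with hK | hK
  · exact Nat.eq_of_beq_eq_true hK
  · exfalso
    obtain ⟨o, ho, hne⟩ := List.any_eq_true.1 hK
    rw [List.mem_range] at ho
    have h0 := orbit_spec ho 10 le_rfl v (by norm_num; exact hv)
    have h00 := orbit_spec ho 0 (Nat.zero_le _) 0 (by norm_num)
    have hs := el_img (vecWord_lt v) ⟨_, sep_lt ho⟩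
    rw [show el (vecWord v) = 1 from h, map_one, vecWord_eq, h0] at hs
    rw [show table.imgW (fl bword 0 0) (sepPts.getD o 0) = sepPts.getD o 0 from rfl] at h00
    rw [Bool.not_eq_true'] at hne
    exact Bool.false_ne_true (hne.symm.trans (Nat.beq_eq.mpr (hs.symm.trans h00)))

theorem e_inj {v w : ℕ} (hv : v < 1024) (hw : w < 1024) (h : e v = e w) : v = w := by
  have h1 : e (v ^^^ w) = 1 := by rw [e_xor, h, e_sq]
  have := e_eq_one (Nat.xor_lt_two_pow (n := 10) hv hw) h1
  exact Nat.xor_eq_zero_iff.1 this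

theorem coord_lt {i : ℕ} (hi : i < 22) : coords.getD i 0 < 1024 :=
  Nat.le_of_ble_eq_true (Bool.and_eq_true_iff.1 (List.all_eq_true.1 coord_ok i (List.mem_range.2 hi))).1

theorem d_coord {i : ℕ} (hi : i < 22) : d i = e (coords.getD i 0) :=
  eq_of_sameK (frameWord_lt hi) (vecWord_lt _)
    (Bool.and_eq_true_iff.1 (List.all_eq_true.1 coord_ok i (List.mem_range.2 hi))).2

theorem ev_fix {n : ℕ} (hn : n ≤ 10) (v : ℕ) {j : ℕ} (hj : j < 22) : hom (ev n v) (fpt j) = fpt j := by
  induction n with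
  | zero =>
    show hom 1 _ = _
    rw [map_one, Equiv.Perm.one_apply]
  | succ n ih =>
    rw [ev_succ, map_mul, Equiv.Perm.mul_apply, ih (by omega), bterm]
    split
    · exact d_fix (basis_lt (by omega)) hj
    · rw [map_one, Equiv.Perm.one_apply]

/-- The element of a normal form in the seven elements. -/
noncomputable def U (a : ℕ) : Fi22 := el (upWord a)

/-- One of the seven elements. -/
noncomputable def u (k : ℕ) : Fi22 := el (upWords.getD k [])

theorem U_zero : U 0 = 1 := by
  rw [U, upWord_eq, fl_trunc _ (Nat.zero_le 7) (by norm_num : 0 < 2 ^ 0)]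
  rfl

theorem U_top {k w : ℕ} (hk : k < 7) (hw : w < 2 ^ k) : U (w + 2 ^ k) = u k * U w := by
  rw [U, U, upWord_eq, upWord_eq, fl_trunc _ (Nat.succ_le_of_lt hk) (by rw [pow_succ]; omega),
    fl_top _ hw, fl_trunc _ hk.le hw, el_append, u]

theorem U_two_pow {k : ℕ} (hk : k < 7) : U (2 ^ k) = u k := by
  have := U_top hk (show 0 < 2 ^ k from Nat.two_pow_pos k)
  rwa [zero_add, U_zero, mul_one] at this

theorem U_frame : ∀ k ≤ 7, ∀ a < 2 ^ k, ∀ i < 22,
    permAt a i < 22 ∧ hom (U a) (fpt i) = fpt (permAt a i) := by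
  have hT := permTab_ok
  simp only [permTabK, Bool.and_eq_true, List.all_eq_true, List.mem_range] at hT
  have hP := permute_ok
  simp only [permuteK, Bool.and_eq_true, List.all_eq_true, List.mem_range] at hP
  intro k
  induction k with
  | zero =>
    intro _ a ha i hi
    obtain rfl : a = 0 := by omega
    rw [permAt_zero_ok i hi, U_zero, map_one]
    exact ⟨hi, rfl⟩
  | succ k ih =>
    intro hk a ha i hi
    rcases lt_or_ge a (2 ^ k) with h | h
    · exact ih (by omega) a h i hi
    · obtain ⟨w, rfl⟩ : ∃ w, a = w + 2 ^ k := ⟨a - 2 ^ k, by omega⟩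
      have hw : w < 2 ^ k := by rw [pow_succ] at ha; omega
      obtain ⟨h1, h2⟩ := ih (by omega) w hw i hi
      obtain ⟨h3, h4⟩ := hP k (by omega) (permAt w i) h1
      rw [Nat.eq_of_beq_eq_true (hT.1.2 k (by omega) w hw i hi)]
      have h3' : permAt (2 ^ k) (permAt w i) < 22 := Nat.le_of_ble_eq_true h3
      refine ⟨h3', ?_⟩
      rw [U_top (by omega) hw, map_mul, Equiv.Perm.mul_apply, h2]
      refine Fin.ext ?_
      rw [u, el_img (upWords_lt (by omega)), fpt_val h1, fpt_val h3']
      exact Nat.eq_of_beq_eq_true h4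

theorem conj_d {a : ℕ} (ha : a < 128) {i : ℕ} (hi : i < 22) : U a * d i * (U a)⁻¹ = d (permAt a i) := by
  obtain ⟨h1, h2⟩ := U_frame 7 le_rfl a ha i hi
  rw [d_eq hi, conj_dp, h2, d_eq h1]

/-- The image of a vector, the first coordinates only. -/
noncomputable def acN (a v : ℕ) : ℕ → ℕ :=
  fun n => Nat.rec 0 (fun k ih =>
    Nat.xor (cond (Nat.testBit v k) (coords.getD (permAt a (basisIx.getD k 0)) 0) 0) ih) n

theorem actV_eq (a v : ℕ) : actV a v = acN a v 10 := rfl

theorem conj_ev {a : ℕ} (ha : a < 128) (v : ℕ) : ∀ n ≤ 10,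
    acN a v n < 1024 ∧ U a * ev n v * (U a)⁻¹ = e (acN a v n) := by
  intro n
  induction n with
  | zero =>
    intro _
    refine ⟨Nat.two_pow_pos 10, ?_⟩
    show U a * 1 * (U a)⁻¹ = e 0
    rw [mul_one, mul_inv_cancel, e_zero]
  | succ n ih =>
    intro hn
    obtain ⟨h1, h2⟩ := ih (by omega)
    have hb := basis_lt (show n < 10 by omega)
    have hp := (U_frame 7 le_rfl a ha _ hb).1
    have hs : acN a v (n + 1) =
        (cond (Nat.testBit v n) (coords.getD (permAt a (basisIx.getD n 0)) 0) 0) ^^^ acN a v n := rfl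
    have hcl : cond (Nat.testBit v n) (coords.getD (permAt a (basisIx.getD n 0)) 0) 0 < 1024 ∧
        U a * bterm n v * (U a)⁻¹ =
          e (cond (Nat.testBit v n) (coords.getD (permAt a (basisIx.getD n 0)) 0) 0) := by
      rw [bterm]
      cases v.testBit n
      · simp [e_zero]
      · exact ⟨coord_lt hp, by rw [if_pos rfl, conj_d ha hb, d_coord hp]; rfl⟩
    rw [hs]
    refine ⟨Nat.xor_lt_two_pow (n := 10) hcl.1 h1, ?_⟩
    rw [e_xor, ← hcl.2, ← h2, ev_succ]
    group

theorem actV_lt {a : ℕ} (ha : a < 128) (v : ℕ) : actV a v < 1024 := (conj_ev ha v 10 le_rfl).1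

theorem conj_e {a : ℕ} (ha : a < 128) (v : ℕ) : U a * e v * (U a)⁻¹ = e (actV a v) :=
  (conj_ev ha v 10 le_rfl).2

theorem norm_spec {k : ℕ} {w : List ℕ} {va : ℕ × ℕ} (hw : ∀ x ∈ w, x < 9) (h : normK w va k = true) :
    va.1 < 1024 ∧ va.2 < 2 ^ k ∧ el w = e va.1 * U va.2 := by
  simp only [normK, Bool.and_eq_true] at h
  refine ⟨Nat.le_of_ble_eq_true h.1.1, Nat.le_of_ble_eq_true h.1.2, ?_⟩
  rw [eq_of_sameK hw (fun x hx => ?_) h.2, el_append, e, U]
  rcases List.mem_append.1 hx with hx | hx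
  exacts [upWord_lt _ x hx, vecWord_lt _ x hx]

theorem extend {G : Type*} [Group G] (H : Subgroup G) (x : G) (h2 : x * x ∈ H)
    (hc : ∀ h ∈ H, x * h * x⁻¹ ∈ H) : ∃ K : Subgroup G, ∀ g, g ∈ K ↔ g ∈ H ∨ x⁻¹ * g ∈ H := by
  have hc' : ∀ h ∈ H, x⁻¹ * h * x ∈ H := fun h hh => by
    have := H.mul_mem (H.mul_mem (H.inv_mem h2) (hc h hh)) h2
    convert this using 1
    group
  refine ⟨{ carrier := {g | g ∈ H ∨ x⁻¹ * g ∈ H}, one_mem' := Or.inl H.one_mem, mul_mem' := ?_,
            inv_mem' := ?_ }, fun g => Iff.rfl⟩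
  · rintro a b (ha | ha) (hb | hb)
    · exact Or.inl (H.mul_mem ha hb)
    · refine Or.inr ?_
      have := H.mul_mem (hc' a ha) hb
      convert this using 1
      group
    · refine Or.inr ?_
      rw [← mul_assoc]
      exact H.mul_mem ha hb
    · refine Or.inl ?_
      have := H.mul_mem (H.mul_mem (hc _ ha) h2) hb
      convert this using 1
      group
  · rintro a (ha | ha)
    · exact Or.inl (H.inv_mem ha)
    · refine Or.inr ?_
      have := H.mul_mem (hc' _ (H.inv_mem ha)) (H.inv_mem h2)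
      convert this using 1
      group

/-- The elements with a normal form. -/
def InT (k : ℕ) (g : Fi22) : Prop := ∃ v a, v < 1024 ∧ a < 2 ^ k ∧ g = e v * U a

theorem exists_series : ∀ k ≤ 7, ∃ H : Subgroup Fi22, ∀ g, g ∈ H ↔ InT k g := by
  intro k
  induction k with
  | zero =>
    intro _
    refine ⟨{ carrier := {g | ∃ v < 1024, g = e v}, one_mem' := ⟨0, by norm_num, e_zero.symm⟩,
              mul_mem' := ?_, inv_mem' := ?_ }, fun g => ⟨?_, ?_⟩⟩
    · rintro _ _ ⟨v, hv, rfl⟩ ⟨w, hw, rfl⟩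
      exact ⟨v ^^^ w, Nat.xor_lt_two_pow (n := 10) hv hw, (e_xor v w).symm⟩
    · rintro _ ⟨v, hv, rfl⟩
      exact ⟨v, hv, e_inv v⟩
    · rintro ⟨v, hv, rfl⟩
      exact ⟨v, 0, hv, by norm_num, by rw [U_zero, mul_one]⟩
    · rintro ⟨v, a, hv, ha, rfl⟩
      obtain rfl : a = 0 := by omega
      exact ⟨v, hv, by rw [U_zero, mul_one]⟩
  | succ k ih =>
    intro hk
    obtain ⟨H, hH⟩ := ih (by omega)
    have hk7 : k < 7 := by omega
    have hR := rel_ok
    simp only [relK, Bool.and_eq_true, List.all_eq_true, List.mem_range] at hR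
    obtain ⟨hsq, hcj⟩ := hR k hk7
    have hu := upWords_lt hk7
    have h2 : u k * u k ∈ H := by
      obtain ⟨a1, a2, a3⟩ := norm_spec (fun x hx => (List.mem_append.1 hx).elim (hu x) (hu x)) hsq
      rw [el_append] at a3
      exact (hH _).2 ⟨_, _, a1, a2, a3⟩
    have hE : ∀ v < 1024, e v ∈ H := fun v hv =>
      (hH _).2 ⟨v, 0, hv, Nat.two_pow_pos k, by rw [U_zero, mul_one]⟩
    have h128 : 2 ^ k < 128 := (Nat.pow_lt_pow_right (by norm_num) hk7).trans_le (by norm_num)
    have hce : ∀ v, u k * e v * (u k)⁻¹ = e (actV (2 ^ k) v) := fun v => by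
      rw [← U_two_pow hk7]; exact conj_e h128 v
    have hcU : ∀ j ≤ k, ∀ a < 2 ^ j, u k * U a * (u k)⁻¹ ∈ H := by
      intro j
      induction j with
      | zero =>
        intro _ a ha
        obtain rfl : a = 0 := by omega
        rw [U_zero, mul_one, mul_inv_cancel]
        exact H.one_mem
      | succ j ihj =>
        intro hj a ha
        rcases lt_or_ge a (2 ^ j) with h | h
        · exact ihj (by omega) a h
        · obtain ⟨w, rfl⟩ : ∃ w, a = w + 2 ^ j := ⟨a - 2 ^ j, by omega⟩
          have hw : w < 2 ^ j := by rw [pow_succ] at ha; omega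
          obtain ⟨a1, a2, a3⟩ := norm_spec (fun x hx => by
            rcases List.mem_append.1 hx with hx | hx
            · rcases List.mem_append.1 hx with hx | hx
              · exact hu x (List.mem_reverse.1 hx)
              · exact upWords_lt (by omega) x hx
            · exact hu x hx) (hcj j (by omega))
          rw [el_append, el_append, el_reverse hu, ← mul_assoc] at a3
          have h1 : u k * u j * (u k)⁻¹ ∈ H := (hH _).2 ⟨_, _, a1, a2, a3⟩
          rw [U_top (by omega) hw]
          have := H.mul_mem h1 (ihj (by omega) w hw)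
          convert this using 1
          group
    have hc : ∀ h ∈ H, u k * h * (u k)⁻¹ ∈ H := by
      intro h hh
      obtain ⟨v, a, hv, ha, rfl⟩ := (hH h).1 hh
      have := H.mul_mem (hE _ (actV_lt h128 v)) (hcU k le_rfl a ha)
      rw [← hce] at this
      convert this using 1
      group
    obtain ⟨K, hK⟩ := extend H (u k) h2 hc
    refine ⟨K, fun g => ⟨fun hg => ?_, ?_⟩⟩
    · rcases (hK g).1 hg with hg | hg
      · obtain ⟨v, a, hv, ha, rfl⟩ := (hH g).1 hg
        exact ⟨v, a, hv, by rw [pow_succ]; omega, rfl⟩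
      · obtain ⟨v, a, hv, ha, hg⟩ := (hH _).1 hg
        refine ⟨actV (2 ^ k) v, a + 2 ^ k, actV_lt h128 v, by rw [pow_succ]; omega, ?_⟩
        rw [inv_mul_eq_iff_eq_mul] at hg
        rw [hg, U_top hk7 ha, ← hce]
        group
    · rintro ⟨v, a, hv, ha, rfl⟩
      rw [hK]
      rcases lt_or_ge a (2 ^ k) with h | h
      · exact Or.inl ((hH _).2 ⟨v, a, hv, h, rfl⟩)
      · obtain ⟨w, rfl⟩ : ∃ w, a = w + 2 ^ k := ⟨a - 2 ^ k, by omega⟩
        have hw : w < 2 ^ k := by rw [pow_succ] at ha; omega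
        refine Or.inr ?_
        rw [U_top hk7 hw]
        have h4 := H.mul_mem (H.mul_mem (H.inv_mem h2) (hc _ (hE v hv))) h2
        have := H.mul_mem h4 ((hH (U w)).2 ⟨0, w, by norm_num, hw, by rw [e_zero, one_mul]⟩)
        convert this using 1
        group

/-- The subgroup of order 2 ^ 17. -/
noncomputable def syl : Subgroup Fi22 := (exists_series 7 le_rfl).choose

theorem mem_syl {g : Fi22} : g ∈ syl ↔ ∃ v a, v < 1024 ∧ a < 128 ∧ g = e v * U a :=
  (exists_series 7 le_rfl).choose_spec g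

/-- The elementary abelian subgroup of order 1024. -/
noncomputable def eSub : Subgroup Fi22 := (exists_series 0 (Nat.zero_le 7)).choose

theorem mem_eSub {g : Fi22} : g ∈ eSub ↔ ∃ v, v < 1024 ∧ g = e v := by
  refine ((exists_series 0 (Nat.zero_le 7)).choose_spec g).trans ⟨?_, ?_⟩
  · rintro ⟨v, a, hv, ha, rfl⟩
    obtain rfl : a = 0 := by omega
    exact ⟨v, hv, by rw [U_zero, mul_one]⟩
  · rintro ⟨v, hv, rfl⟩
    exact ⟨v, 0, hv, by norm_num, by rw [U_zero, mul_one]⟩

end CfsgLib.Sporadic.FiTransfer.SylowTwo
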