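import Cfsg.Agent.Lib.Sporadic.FiTransfer.SylowTwo.Main
import Cfsg.Agent.Lib.Sporadic.FiTransfer.Model
import Cfsg.Agent.Lib.Fusion.Thompson
import Cfsg.Prelude.Def_SporadicB

/-!
In a group of type M(22) the transpositions in a Sylow 2-subgroup generate its Thompson subgroup.
-/

set_option autoImplicit false
set_option maxRecDepth 100000

open Cfsg.Spor

namespace CfsgLib.Sporadic.FiTransfer.SylowTwo

open CosetCert CosetCert.FiP CosetCert.FiP.OutFi22
open CosetCert.FiData (table)

attribute [local irreducible] PTab.img actV mulAt permAt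

theorem classTr_range : classTr = Set.range dp := by
  have e : FiP.tr = dp pt := by rw [dp_pt]; exact (coding.gen_code Fi22.Gen.a).symm
  ext y
  constructor
  · intro hy
    obtain ⟨g, rfl⟩ := isConj_iff.1 hy
    exact ⟨hom g pt, by rw [← conj_dp, ← e]⟩
  · rintro ⟨p, rfl⟩
    obtain ⟨c, rfl⟩ := transitive p
    rw [← conj_dp, ← e]
    exact classTr_conj mem_classTr_self

theorem d_mem_eSub {i : ℕ} (hi : i < 22) : d i ∈ eSub :=
  mem_eSub.2 ⟨coords.getD i 0, coord_lt hi, d_coord hi⟩

theorem d_mem_class {i : ℕ} (hi : i < 22) : d i ∈ classTr := by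
  rw [classTr_range, d_eq hi]
  exact ⟨_, rfl⟩

/-- A transposition in the Sylow subgroup centralising the twenty-two transpositions is in the abelian one. -/
theorem mem_eSub_of_commute {x : Fi22} (hx : x ∈ syl) (hc : ∀ i < 22, Commute x (d i)) : x ∈ eSub := by
  refine mem_eSub_of_perm hx ⟨by norm_num, fun i hi => ?_⟩
  rw [permAt_zero_ok i hi]
  refine dp_injective ?_
  rw [← conj_dp, ← d_eq hi, (hc i hi).eq, mul_inv_cancel_right]

theorem eSub_le_closure : eSub ≤ Subgroup.closure {x | x ∈ classTr ∧ x ∈ syl} := by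
  intro g hg
  obtain ⟨v, -, rfl⟩ := mem_eSub.1 hg
  suffices h : ∀ n ≤ 10, ev n v ∈ Subgroup.closure {x | x ∈ classTr ∧ x ∈ syl} from h 10 le_rfl
  intro n
  induction n with
  | zero => intro _; exact one_mem _
  | succ n ih =>
    intro hn
    rw [ev_succ, bterm]
    refine mul_mem ?_ (ih (by omega))
    split
    · have hb := basis_lt (show n < 10 by omega)
      exact Subgroup.subset_closure ⟨d_mem_class hb, eSub_le (d_mem_eSub hb)⟩
    · exact one_mem _

/-- The conclusion of the statement on the Thompson subgroup. -/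
theorem transpositions_thompson {G : Type*} [Group G] [Finite G] {D : Set G}
    (hD : Cfsg.IsThreeTranspositionSet D) (h : ModelIso G D) (T : Sylow 2 G) :
    Subgroup.closure {x : G | x ∈ D ∧ x ∈ (T : Subgroup G)} =
      Cfsg.thompsonSubgroupOf 2 (T : Subgroup G) := by
  obtain ⟨e₀, he₀⟩ := h
  have := finite'
  obtain ⟨g, hg⟩ := MulAction.exists_smul_eq Fi22 (Sylow.mapSurjective (f := e₀.toMonoidHom) e₀.surjective T : Sylow 2 Fi22) sylT
  have hg' : ((T : Subgroup G).map e₀.toMonoidHom).map (MulAut.conj g).toMonoidHom = syl :=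
    congrArg (fun S : Sylow 2 Fi22 => (S : Subgroup Fi22)) hg
  let f : G ≃* Fi22 := e₀.trans (MulAut.conj g)
  have hT : ∀ x, x ∈ (T : Subgroup G) ↔ f x ∈ syl := fun x => by
    rw [← hg']
    constructor
    · exact fun hx => Subgroup.mem_map_of_mem _ (Subgroup.mem_map_of_mem _ hx)
    · rintro ⟨_, ⟨y, hy, rfl⟩, hy'⟩
      rwa [← f.injective (show f y = f x from hy')]
  have hD' : ∀ x, x ∈ D ↔ f x ∈ classTr := fun x => by
    rw [mem_iff_of_image e₀ he₀]
    refine ⟨fun hx => classTr_conj hx, fun hx => ?_⟩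
    have := classTr_conj (g := g⁻¹) hx
    simpa [f, mul_assoc] using this
  have hTp : IsPGroup 2 (T : Subgroup G) := T.2
  have hcomm : ∀ x ∈ D, x ∈ (T : Subgroup G) → ∀ y ∈ D, y ∈ (T : Subgroup G) → Commute x y := by
    intro x hx hxT y hy hyT
    have hx2 : x * x = 1 := by rw [← pow_two, ← hD.1 x hx, pow_orderOf_eq_one]
    have hy2 : y * y = 1 := by rw [← pow_two, ← hD.1 y hy, pow_orderOf_eq_one]
    have h1 : (x * y) ^ 2 = 1 := by
      rcases hD.2 x hx y hy with h2 | h3
      · exact h2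
      · obtain ⟨k, hk⟩ := hTp ⟨x * y, mul_mem hxT hyT⟩
        have hk' : (x * y) ^ 2 ^ k = 1 := congrArg Subtype.val hk
        have h1 : (x * y) ^ Nat.gcd 3 (2 ^ k) = 1 := pow_gcd_eq_one.2 ⟨h3, hk'⟩
        rw [(Nat.Coprime.pow_right k (by norm_num : Nat.Coprime 3 2)).gcd_eq_one, pow_one] at h1
        rw [h1, one_pow]
    show x * y = y * x
    calc x * y = x * y * (x * y * (x * y))⁻¹ := by rw [← pow_two, h1, inv_one, mul_one]
      _ = y⁻¹ * x⁻¹ := by group
      _ = _ := by rw [inv_eq_of_mul_eq_one_right hx2, inv_eq_of_mul_eq_one_right hy2]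
  let E : Subgroup G := eSub.comap f.toMonoidHom
  have hET : E ≤ T := fun x hx => (hT x).2 (eSub_le hx)
  have hclosure : Subgroup.closure {x : G | x ∈ D ∧ x ∈ (T : Subgroup G)} = E := by
    refine le_antisymm ((Subgroup.closure_le _).2 ?_) ?_
    · rintro x ⟨hx, hxT⟩
      refine mem_eSub_of_commute ((hT x).1 hxT) fun i hi => ?_
      have hs := f.apply_symm_apply (d i)
      have h2 := hcomm x hx hxT (f.symm (d i)) ((hD' _).2 (hs.symm ▸ d_mem_class hi))
        ((hT _).2 (hs.symm ▸ eSub_le (d_mem_eSub hi)))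
      have h3 := h2.map f.toMonoidHom
      rwa [MulEquiv.coe_toMonoidHom, hs] at h3
    · have hsub : f '' {x : G | x ∈ D ∧ x ∈ (T : Subgroup G)} = {x | x ∈ classTr ∧ x ∈ syl} := by
        ext y
        constructor
        · rintro ⟨x, ⟨hx, hxT⟩, rfl⟩
          exact ⟨(hD' x).1 hx, (hT x).1 hxT⟩
        · rintro ⟨hy, hyT⟩
          exact ⟨f.symm y, ⟨(hD' _).2 (by rwa [f.apply_symm_apply]), (hT _).2 (by rwa [f.apply_symm_apply])⟩,
            f.apply_symm_apply y⟩
      intro x hx
      have hx' : f x ∈ (Subgroup.closure {x : G | x ∈ D ∧ x ∈ (T : Subgroup G)}).map f.toMonoidHom := by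
        rw [MonoidHom.map_closure]
        exact (show _ = _ from hsub) ▸ eSub_le_closure hx
      obtain ⟨y, hy, hyx⟩ := hx'
      rwa [← f.injective (show f y = f x from hyx)]
  have hEA : Cfsg.IsElementaryAbelian 2 E := by
    refine ⟨⟨⟨?_⟩⟩, fun x hx => f.injective ?_⟩
    · rintro ⟨x, hx⟩ ⟨y, hy⟩
      obtain ⟨⟨hc⟩⟩ := eSub_elementary.1
      refine Subtype.ext (f.injective ?_)
      have := congrArg Subtype.val (hc ⟨f x, hx⟩ ⟨f y, hy⟩)
      show f (x * y) = f (y * x)
      rw [map_mul, map_mul]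
      exact this
    · rw [map_pow, map_one]
      exact eSub_elementary.2 _ hx
  have hcard : ∀ B : Subgroup G, Nat.card (B.map f.toMonoidHom) = Nat.card B := fun B =>
    Subgroup.card_map_of_injective f.injective
  have hEc : Nat.card E = 1024 := by
    rw [← hcard, Subgroup.map_comap_eq_self_of_surjective f.surjective, card_eSub]
  have hmax : ∀ B : Subgroup G, B ≤ T → Cfsg.IsElementaryAbelian 2 B →
      Nat.card B ≤ 1024 ∧ (Nat.card B = 1024 → B = E) := by
    intro B hB hBA
    have hle : B.map f.toMonoidHom ≤ syl := by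
      rintro _ ⟨x, hx, rfl⟩
      exact (hT x).1 (hB hx)
    obtain ⟨h1, h2⟩ := card_le hle (Fusion.Thompson.isEA_map f.toMonoidHom hBA)
    rw [hcard] at h1 h2
    refine ⟨by simpa using h1, fun hc => ?_⟩
    have := h2 (by simpa using hc)
    rw [← Subgroup.comap_map_eq_self_of_injective (f := f.toMonoidHom) f.injective B, this]
  rw [hclosure]
  have hset : Cfsg.maxElementaryAbelianSubgroups 2 (T : Subgroup G) = {E.subgroupOf T} := by
    have key : ∀ B : Subgroup (T : Subgroup G), Cfsg.IsElementaryAbelian 2 B →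
        Nat.card B ≤ 1024 ∧ (Nat.card B = 1024 → B = E.subgroupOf T) := by
      intro B hB
      obtain ⟨h1, h2⟩ := hmax (B.map (T : Subgroup G).subtype) (Subgroup.map_subtype_le B)
        (Fusion.Thompson.isEA_map _ hB)
      rw [Subgroup.card_map_of_injective Subtype.val_injective] at h1 h2
      refine ⟨h1, fun hc => ?_⟩
      rw [← h2 hc, Subgroup.subgroupOf, Subgroup.comap_map_eq_self_of_injective Subtype.val_injective]
    have hEs : Cfsg.IsElementaryAbelian 2 (E.subgroupOf (T : Subgroup G)) := by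
      refine ⟨⟨⟨fun x y => ?_⟩⟩, fun x hx => Subtype.ext (hEA.2 _ hx)⟩
      obtain ⟨⟨hc⟩⟩ := hEA.1
      have := congrArg Subtype.val (hc ⟨_, x.2⟩ ⟨_, y.2⟩)
      exact Subtype.ext (Subtype.ext this)
    have hEsc : Nat.card (E.subgroupOf (T : Subgroup G)) = 1024 := by
      rw [Nat.card_congr (Subgroup.subgroupOfEquivOfLe hET).toEquiv, hEc]
    ext B
    constructor
    · rintro ⟨hB, hBmax⟩
      refine (key B hB).2 (le_antisymm (key B hB).1 ?_)
      rw [← hEsc]
      exact hBmax _ hEs
    · rintro rfl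
      exact ⟨hEs, fun B hB => hEsc ▸ (key B hB).1⟩
  rw [Cfsg.thompsonSubgroupOf, Cfsg.thompsonSubgroup, hset, sSup_singleton,
    Subgroup.map_subgroupOf_eq_of_le hET]

end CfsgLib.Sporadic.FiTransfer.SylowTwo
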